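import Cfsg.Agent.J4PGL.Cent
import Cfsg.Agent.J4Local.Eleven.Main
import Cfsg.Agent.J4Local.SylowThreeMain
import Cfsg.Agent.Golay.PrimeCounts
import Cfsg.Agent.S5564

/-!
Elements of order eleven centralising an involution in a group of Janko-four type: one class up to
inversion in the centraliser of `z`, one class in the normaliser of an elementary subgroup of order `2 ^ 11`.
-/

set_option autoImplicit false
set_option maxRecDepth 100000
set_option linter.style.haveILetI false
set_option linter.unusedSectionVars false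

namespace CfsgLib.J4ClassEleven

open Cfsg CfsgLib.J4Local CfsgLib.J4Local.M22Elem CfsgLib.J4Eleven CfsgLib.Golay.Cert Subgroup

attribute [local instance] Classical.propDecidable

local instance fact11 : Fact (Nat.Prime 11) := ⟨by norm_num⟩

/-- With one power-closed element, elements of prime order are conjugate up to inversion. -/
theorem conj_of_powClosed {M : Type*} [Group M] [Finite M] {p : ℕ} [Fact p.Prime] (hM : ¬ p ^ 2 ∣ Nat.card M)
    {x : M} (hx : orderOf x = p) (hpc : PrimeNorm.PowClosed x) {u : M} (hu : orderOf u = p) :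
    IsConj x u ∨ IsConj x⁻¹ u := by
  obtain ⟨k, hk, hc⟩ := PrimeNorm.exists_isConj_pow hM hx hu
  rcases hpc k (by rw [hx]; exact hk) with h | h
  · first
      | exact Or.inl (h.trans hc)
      | exact Or.inl (h.trans hc.symm)
  · first
      | exact Or.inr (h.trans hc)
      | exact Or.inr (h.trans hc.symm)

variable {G : Type*} [Group G] [Finite G] {z : G} {P : Subgroup G}

theorem sylow_conj_into {H : Subgroup G} (hH : (Nat.card H).factorization 11 = 1) {w c : G} (hw : w ∈ H)
    (hwo : orderOf w = 11) (hc : c ∈ H) (hco : orderOf c = 11) :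
    ∃ h ∈ H, h * w * h⁻¹ ∈ zpowers c := by
  let Sw : Sylow 11 H := Sylow.ofCard (zpowers (⟨w, hw⟩ : H))
    (by rw [Nat.card_zpowers, Subgroup.orderOf_mk, hwo, hH, pow_one])
  let Sc : Sylow 11 H := Sylow.ofCard (zpowers (⟨c, hc⟩ : H))
    (by rw [Nat.card_zpowers, Subgroup.orderOf_mk, hco, hH, pow_one])
  obtain ⟨h, hh⟩ := MulAction.exists_smul_eq H Sw Sc
  refine ⟨h, h.2, ?_⟩
  have hmem : h * ⟨w, hw⟩ * h⁻¹ ∈ (Sc : Subgroup H) := by
    rw [← hh]; exact ⟨_, mem_zpowers _, rfl⟩
  obtain ⟨i, hi⟩ := mem_zpowers_iff.1 (show h * ⟨w, hw⟩ * h⁻¹ ∈ zpowers (⟨c, hc⟩ : H) from hmem)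
  exact mem_zpowers_iff.2 ⟨i, by simpa using congrArg Subtype.val hi⟩

variable (hJ : IsOfJankoFourTypeWith z P)

include hJ

theorem factorization_H : (Nat.card (centralizer ({z} : Set G))).factorization 11 = 1 := by
  rw [CfsgLib.J4Three.card_centralizer hJ, show (27 * (2 ^ 13 * 98560) : ℕ) = 11 * (27 * (2 ^ 13 * 8960)) by norm_num,
    Nat.factorization_mul (by norm_num) (by norm_num), Finsupp.add_apply,
    Nat.Prime.factorization_self (by norm_num : Nat.Prime 11),
    Nat.factorization_eq_zero_of_not_dvd (by norm_num : ¬ 11 ∣ 27 * (2 ^ 13 * 8960))]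

/-- An element of order eleven of `C_H(P)`, with every such element conjugate to it or to its inverse. -/
theorem exists_rep : ∃ x : G, x ∈ cH z ∧ orderOf x = 11 ∧
    ∀ w ∈ cH z, orderOf w = 11 → IsConj w x ∨ IsConj w x⁻¹ := by
  obtain ⟨m0, hm0, hpc, -, -⟩ := m22_eleven
  have h121 : ¬ 11 ^ 2 ∣ Nat.card ↥Spor.M22 := by rw [CfsgLib.J4M22.card_M]; norm_num
  obtain ⟨y0, hy0⟩ := quo_surjective hJ m0
  have lift : ∀ w : cC z P, orderOf (w : G) = 11 → orderOf (quo hJ w) = 11 := by
    intro w hw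
    refine orderOf_eq_prime (by rw [← map_pow, ← map_one (quo hJ)]; congr 1; exact Subtype.ext (by
      rw [SubmonoidClass.coe_pow, ← hw, pow_orderOf_eq_one, OneMemClass.coe_one])) fun h => ?_
    have h6 := K_pow_six hJ ((quo_eq_one_iff hJ).1 h)
    have := Nat.eq_one_of_dvd_coprimes (by norm_num : Nat.Coprime 11 6) (hw ▸ dvd_refl (orderOf (w : G)))
      (orderOf_dvd_of_pow_eq_one h6)
    rw [hw] at this
    norm_num at this
  obtain ⟨y, hy⟩ := exists_prime_orderOf_dvd_card' (G := cC z P) 11 (by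
    have h := orderOf_map_dvd (quo hJ) y0
    rw [hy0, hm0] at h
    exact h.trans (orderOf_dvd_natCard y0))
  have hyo : orderOf (y : G) = 11 := by rw [Subgroup.orderOf_coe, hy]
  have inC : ∀ w : cC z P, orderOf (w : G) = 11 → IsConj (w : G) y ∨ IsConj (w : G) (y : G)⁻¹ := by
    intro w hw
    have h1 := conj_of_powClosed h121 hm0 hpc (lift w hw)
    have h2 := conj_of_powClosed h121 hm0 hpc (lift y hyo)
    have hinv : ∀ {a b : ↥Spor.M22}, IsConj a b → IsConj a⁻¹ b⁻¹ := fun h => by
      obtain ⟨c, hc⟩ := isConj_iff.1 h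
      exact isConj_iff.2 ⟨c, by rw [← hc, conj_inv]⟩
    have key : IsConj (quo hJ w) (quo hJ y) ∨ IsConj (quo hJ w) (quo hJ y)⁻¹ := by
      rcases h1 with a | a <;> rcases h2 with b | b
      · exact Or.inl (a.symm.trans b)
      · exact Or.inr (a.symm.trans (by simpa using hinv b))
      · exact Or.inr (a.symm.trans (hinv b))
      · exact Or.inl (a.symm.trans b)
    have push : ∀ u : cC z P, orderOf (u : G) = 11 → IsConj (quo hJ w) (quo hJ u) → IsConj (w : G) u := by
      intro u hu hcj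
      obtain ⟨m, hm⟩ := isConj_iff.1 hcj
      obtain ⟨n, rfl⟩ := quo_surjective hJ m
      refine isConj_iff.2 ⟨(n : G), ?_⟩
      have hk : (u : G)⁻¹ * ((n : G) * w * (n : G)⁻¹) ∈ cK z P := by
        have h := (quo_eq_iff hJ (c := u) (d := n * w * n⁻¹)).1 (by rw [map_mul, map_mul, map_inv, hm])
        simpa using h
      set k := (u : G)⁻¹ * ((n : G) * w * (n : G)⁻¹) with hkdef
      have hc : Commute (u : G) k := (K_central hJ hk u.2).symm
      have h11 : k ^ 11 = 1 := by
        have e : ((u : G) * k) ^ 11 = 1 := by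
          rw [hkdef, mul_inv_cancel_left, conj_pow, ← hw, pow_orderOf_eq_one, mul_one, mul_inv_cancel]
        rwa [hc.mul_pow, ← hu, pow_orderOf_eq_one, one_mul, hu] at e
      have hk1 : k = 1 := orderOf_eq_one_iff.1 (Nat.eq_one_of_dvd_coprimes (by norm_num : Nat.Coprime 11 6)
        (orderOf_dvd_of_pow_eq_one h11) (orderOf_dvd_of_pow_eq_one (K_pow_six hJ hk)))
      rw [hkdef, inv_mul_eq_one] at hk1
      exact hk1.symm
    rcases key with h | h
    · exact Or.inl (push y hyo h)
    · have := push y⁻¹ (by rw [InvMemClass.coe_inv, orderOf_inv, hyo]) (by rwa [map_inv])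
      exact Or.inr (by simpa using this)
  refine ⟨y, y.2.1, hyo, fun w hw hwo => ?_⟩
  obtain ⟨h, -, hh⟩ := sylow_conj_into (factorization_H hJ) hw hwo y.2.1 hyo
  have hmem : h * w * h⁻¹ ∈ cC z P := zpowers_le.2 y.2 hh
  have hord : orderOf (h * w * h⁻¹) = 11 := by
    rw [← hwo]; exact orderOf_injective (MulAut.conj h).toMonoidHom (MulAut.conj h).injective w
  have hc : IsConj w (h * w * h⁻¹) := isConj_iff.2 ⟨h, rfl⟩
  exact (inC ⟨_, hmem⟩ hord).imp hc.trans hc.trans

variable [IsSimpleGroup G] (hG : ¬ IsMulCommutative G)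

/-- The section over the standard subgroup and the labelling. -/
structure Sec (z : G) (P : Subgroup G) (V : Subgroup G) where
  φ : ↥(normalizer (V : Set G)) →* M24
  d : GolayPt → GolayPt → G
  C : Conf z V
  L : Labels z V φ d
  ι : M24 →* G
  hιN : ∀ g, ι g ∈ normalizer (V : Set G)
  hφ : ∀ g, φ ⟨ι g, hιN g⟩ = g
  hct : ∀ t ∈ nS z V, centralizer ({t} : Set G) ≤ normalizer (V : Set G)

omit [IsSimpleGroup G] in
theorem card_normalizer_not_dvd {V : Subgroup G} (S : Sec z P V) :
    ¬ 11 ^ 3 ∣ Nat.card (normalizer (V : Set G)) := by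
  have h := S.φ.ker.card_mul_index
  rw [index_ker, MonoidHom.range_eq_top.2 S.L.surj, card_top, Golay.card_M24] at h
  have hk : Nat.card S.φ.ker ∣ 2 ^ 11 := by
    rw [← S.C.card]
    exact Subgroup.card_dvd_of_injective ({
      toFun := fun m => ⟨m.1.1, (S.L.ker m.1).1 (MonoidHom.mem_ker.1 m.2)⟩
      map_one' := rfl
      map_mul' := fun _ _ => rfl } : S.φ.ker →* V) fun a b e =>
        Subtype.ext (Subtype.ext (congrArg (fun u : V => (u : G)) e))
  rw [← h]
  intro hd
  exact absurd (hd.trans (mul_dvd_mul_right hk _)) (by norm_num)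

/-- All elements of order eleven of the normaliser are conjugate. -/
theorem conj_in_normalizer {V : Subgroup G} (S : Sec z P V) {w : G} (hw : w ∈ normalizer (V : Set G))
    (hwo : orderOf w = 11) : IsConj w (S.ι CfsgLib.J4PGL.dbl24) := by
  set b := S.ι CfsgLib.J4PGL.dbl24
  have hbo : orderOf b = 11 := CfsgLib.J4PGL.orderOf_a S.C S.L S.ι S.hιN S.hφ
  have hfac : (Nat.card (normalizer (V : Set G))).factorization 11 = 1 := by
    have hd : 11 ∣ Nat.card (normalizer (V : Set G)) := hwo ▸ Subgroup.orderOf_dvd_natCard _ hw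
    have h1 := (Fact.out : Nat.Prime 11).factorization_pos_of_dvd Nat.card_pos.ne' hd
    by_contra hne
    have h2 : 11 ^ 2 ∣ Nat.card (normalizer (V : Set G)) :=
      ((Fact.out : Nat.Prime 11).pow_dvd_iff_le_factorization Nat.card_pos.ne').2 (by omega)
    have h := S.φ.ker.card_mul_index
    rw [index_ker, MonoidHom.range_eq_top.2 S.L.surj, card_top, Golay.card_M24] at h
    have hk : Nat.card S.φ.ker ∣ 2 ^ 11 := by
      rw [← S.C.card]
      exact Subgroup.card_dvd_of_injective ({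
        toFun := fun m => ⟨m.1.1, (S.L.ker m.1).1 (MonoidHom.mem_ker.1 m.2)⟩
        map_one' := rfl
        map_mul' := fun _ _ => rfl } : S.φ.ker →* V) fun a b e =>
          Subtype.ext (Subtype.ext (congrArg (fun u : V => (u : G)) e))
    rw [← h] at h2
    exact absurd (h2.trans (mul_dvd_mul_right hk _)) (by norm_num)
  obtain ⟨n, hn, hnw⟩ := sylow_conj_into hfac hw hwo (S.hιN CfsgLib.J4PGL.dbl24) hbo
  obtain ⟨i, hi⟩ := mem_zpowers_iff.1 hnw
  -- all powers of the element of the group of the code are conjugate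
  obtain ⟨m0, hm0, hpc, -, -⟩ := m24_eleven
  have h121 : ¬ 11 ^ 2 ∣ Nat.card M24 := by rw [Golay.card_M24]; norm_num
  have hio : orderOf (CfsgLib.J4PGL.dbl24 ^ i) = 11 := by
    rw [← orderOf_injective S.ι (fun g h e => by
      rw [← S.hφ g, ← S.hφ h]; exact congrArg S.φ (Subtype.ext e)), map_zpow, hi]
    rw [← hwo]; exact orderOf_injective (MulAut.conj n).toMonoidHom (MulAut.conj n).injective w
  have hinv : IsConj CfsgLib.J4PGL.dbl24 CfsgLib.J4PGL.dbl24⁻¹ :=
    isConj_iff.2 ⟨CfsgLib.J4PGL.inv24, CfsgLib.J4PGL.inv24_dbl⟩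
  have hinv' : ∀ {a b : M24}, IsConj a b → IsConj a⁻¹ b⁻¹ := fun h => by
    obtain ⟨c, hc⟩ := isConj_iff.1 h
    exact isConj_iff.2 ⟨c, by rw [← hc, conj_inv]⟩
  have key : IsConj (CfsgLib.J4PGL.dbl24 ^ i) CfsgLib.J4PGL.dbl24 := by
    rcases conj_of_powClosed h121 hm0 hpc hio with a | a <;>
      rcases conj_of_powClosed h121 hm0 hpc CfsgLib.J4PGL.orderOf_dbl24 with c | c
    · exact a.symm.trans c
    · exact (a.symm.trans (by simpa using hinv' c)).trans hinv.symm
    · exact (a.symm.trans (hinv' c)).trans hinv.symm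
    · exact a.symm.trans c
  obtain ⟨g, hg⟩ := isConj_iff.1 key
  refine (isConj_iff.2 ⟨n, hi.symm⟩).trans (isConj_iff.2 ⟨S.ι g, ?_⟩)
  rw [← map_zpow, ← map_inv, ← map_mul, ← map_mul, hg]

/-- No conjugate of `z` centralises the element of the complement. -/
theorem not_comm_z {V : Subgroup G} (S : Sec z P V) {u : G} (hu : u * S.ι CfsgLib.J4PGL.dbl24 = S.ι CfsgLib.J4PGL.dbl24 * u)
    (hz : IsConj z u) : False := by
  haveI : Fact (Nat.Prime 2) := ⟨Nat.prime_two⟩
  set b := S.ι CfsgLib.J4PGL.dbl24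
  set CA : Subgroup G := centralizer ({b} : Set G)
  have hvS : S.d none (some 0) ∈ nS z V := S.L.mem _ _ (by simp)
  set vC : CA := ⟨S.d none (some 0), mem_centralizer_singleton_iff.2
    (CfsgLib.J4PGL.duad_comm S.C S.L S.ι S.hιN S.hφ)⟩
  obtain ⟨T, hT⟩ := (IsPGroup.of_card (p := 2) (n := 1) (G := zpowers vC) (by
    rw [Nat.card_zpowers, pow_one]
    exact orderOf_eq_prime (Subtype.ext (by rw [pow_two]; exact S.C.sq _ (S.L.memV S.C _ _)))
      fun e => (mem_nS.1 hvS).2.1 (congrArg Subtype.val e))).exists_le_sylow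
  have hTmem := CfsgLib.J4PGL.sylow_two_le S.C S.L S.ι S.hιN S.hφ S.hct T (hT (mem_zpowers _))
  obtain ⟨c, hc⟩ := isConj_iff.1 hz
  have hu2 : u * u = 1 := by rw [← hc, _root_.conj_mul, S.C.sq z S.C.z_mem]; group
  set uC : CA := ⟨u, mem_centralizer_singleton_iff.2 hu⟩
  have hp : IsPGroup 2 (zpowers uC) := IsPGroup.of_card (n := 1) (by
    rw [Nat.card_zpowers, pow_one]
    exact orderOf_eq_prime (Subtype.ext (by rw [pow_two]; exact hu2)) fun e => S.C.z_ne (by
      rw [show u = 1 from congrArg Subtype.val e] at hc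
      exact conj_eq_one_iff.1 hc))
  obtain ⟨Q, hQ⟩ := hp.exists_le_sylow
  obtain ⟨h, hh⟩ := MulAction.exists_smul_eq CA Q T
  have hm : h * uC * h⁻¹ ∈ (T : Subgroup CA) := by
    rw [← hh]; exact ⟨uC, hQ (mem_zpowers _), rfl⟩
  rcases hTmem _ hm with e | e
  · have : u = 1 := conj_eq_one_iff.1 (show (h : G) * u * (h : G)⁻¹ = 1 from e)
    rw [this] at hc
    exact S.C.z_ne (conj_eq_one_iff.1 hc)
  · exact (mem_nS.1 hvS).2.2 (hz.trans (isConj_iff.2 ⟨(h : G), e⟩))

/-- The 2-part of the centraliser of the element of the complement. -/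
theorem not_four {V : Subgroup G} (S : Sec z P V) :
    ¬ 4 ∣ Nat.card (centralizer ({S.ι CfsgLib.J4PGL.dbl24} : Set G)) := by
  haveI : Fact (Nat.Prime 2) := ⟨Nat.prime_two⟩
  intro h4
  set CA : Subgroup G := centralizer ({S.ι CfsgLib.J4PGL.dbl24} : Set G)
  have hvS : S.d none (some 0) ∈ nS z V := S.L.mem _ _ (by simp)
  set vC : CA := ⟨S.d none (some 0), mem_centralizer_singleton_iff.2
    (CfsgLib.J4PGL.duad_comm S.C S.L S.ι S.hιN S.hφ)⟩
  obtain ⟨T, hT⟩ := (IsPGroup.of_card (p := 2) (n := 1) (G := zpowers vC) (by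
    rw [Nat.card_zpowers, pow_one]
    exact orderOf_eq_prime (Subtype.ext (by rw [pow_two]; exact S.C.sq _ (S.L.memV S.C _ _)))
      fun e => (mem_nS.1 hvS).2.1 (congrArg Subtype.val e))).exists_le_sylow
  have hTmem := CfsgLib.J4PGL.sylow_two_le S.C S.L S.ι S.hιN S.hφ S.hct T (hT (mem_zpowers _))
  have hle : Nat.card (T : Subgroup CA) ≤ 2 := by
    have hinj : Function.Injective (fun g : (T : Subgroup CA) => decide (((g : CA) : G) = 1)) := by
      intro g h e
      simp only [decide_eq_decide] at e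
      refine Subtype.ext (Subtype.ext ?_)
      rcases hTmem g g.2 with hg | hg <;> rcases hTmem h h.2 with hh | hh
      · rw [hg, hh]
      · rw [hg, e.1 hg]
      · rw [hh, e.2 hh]
      · rw [hg, hh]
    exact (Nat.card_le_card_of_injective _ hinj).trans (by simp)
  rw [T.card_eq_multiplicity] at hle
  have h2 : 2 ≤ (Nat.card CA).factorization 2 :=
    (Nat.prime_two.pow_dvd_iff_le_factorization Nat.card_pos.ne').1 (show 2 ^ 2 ∣ _ from h4)
  have := Nat.pow_le_pow_right (show 0 < 2 by norm_num) h2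
  omega

end CfsgLib.J4ClassEleven
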