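import Mathlib

/-!
A group isomorphic to the general linear group of degree 2 over three elements, acting faithfully on a group
of order 121 and exponent 11: its twelve non-central involutions fix every element between them.
-/

set_option autoImplicit false
set_option linter.style.haveILetI false
set_option linter.unusedSectionVars false

namespace CfsgLib.J4ClassEleven

open Subgroup Matrix

local instance fact3 : Fact (Nat.Prime 3) := ⟨Nat.prime_three⟩

/-- The twelve non-central matrices of square one. -/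
def reflMat : Fin 12 → Matrix (Fin 2) (Fin 2) (ZMod 3) :=
  ![!![1, 0; 0, -1], !![-1, 0; 0, 1], !![1, 1; 0, -1], !![1, -1; 0, -1], !![-1, 1; 0, 1], !![-1, -1; 0, 1],
    !![1, 0; 1, -1], !![1, 0; -1, -1], !![-1, 0; 1, 1], !![-1, 0; -1, 1], !![0, 1; 1, 0], !![0, -1; -1, 0]]

theorem reflMat_sq : ∀ i, reflMat i * reflMat i = 1 := by decide +kernel

theorem reflMat_inj : Function.Injective reflMat := by
  have h : ∀ i j, reflMat i = reflMat j → i = j := by decide +kernel
  exact fun i j => h i j

theorem reflMat_ne : ∀ i, reflMat i ≠ 1 ∧ reflMat i ≠ -1 := by decide +kernel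

/-- The twelve non-central involutions. -/
def refl (i : Fin 12) : GL (Fin 2) (ZMod 3) := ⟨reflMat i, reflMat i, reflMat_sq i, reflMat_sq i⟩

/-- What is used of the group. -/
structure Refl (K : Type*) [Group K] where
  z0 : K
  r : Fin 12 → K
  r_inj : Function.Injective r
  z0_central : ∀ k, z0 * k = k * z0
  z0_sq : z0 * z0 = 1
  z0_ne : z0 ≠ 1
  r_sq : ∀ i, r i * r i = 1
  r_ne : ∀ i, r i ≠ 1
  r_ne' : ∀ i, r i ≠ z0
  not_comm : ∃ a b : K, a * b ≠ b * a
  pow_card : ∀ k : K, k ^ 48 = 1

theorem exists_refl {K : Type*} [Group K] [Finite K] (e : K ≃* GL (Fin 2) (ZMod 3)) : Nonempty (Refl K) := by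
  have hm : ∀ {a b : GL (Fin 2) (ZMod 3)}, a ≠ b → e.symm a ≠ e.symm b := fun h h' => h (e.symm.injective h')
  have h48 : Nat.card (GL (Fin 2) (ZMod 3)) = 48 := by
    rw [Matrix.card_GL_field, Fin.prod_univ_two, ZMod.card]
    norm_num
  refine ⟨{
    z0 := e.symm (-1)
    r := fun i => e.symm (refl i)
    r_inj := fun i j h => reflMat_inj (congrArg Units.val (e.symm.injective h))
    z0_central := fun k => by
      apply e.injective
      rw [map_mul, map_mul, e.apply_symm_apply, neg_one_mul, mul_neg, mul_one]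
    z0_sq := by rw [← map_mul, neg_mul_neg, one_mul, map_one]
    z0_ne := fun h => by
      rw [← map_one e.symm] at h
      have h1 := congrArg Units.val (e.symm.injective h)
      revert h1
      decide +kernel
    r_sq := fun i => by rw [← map_mul, ← map_one e.symm]; exact congrArg e.symm (Units.ext (reflMat_sq i))
    r_ne := fun i h => by
      rw [← map_one e.symm] at h
      exact (reflMat_ne i).1 (congrArg Units.val (e.symm.injective h))
    r_ne' := fun i => hm fun h => (reflMat_ne i).2 ((congrArg Units.val h).trans (by rw [Units.val_neg, Units.val_one]))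
    not_comm := ⟨e.symm (refl 0), e.symm (refl 10), by
      rw [← map_mul, ← map_mul]
      refine hm fun h => ?_
      have h1 : reflMat 0 * reflMat 10 = reflMat 10 * reflMat 0 := congrArg Units.val h
      revert h1
      decide +kernel⟩
    pow_card := fun k => e.injective (by rw [map_pow, map_one, ← h48]; exact pow_card_eq_one') }⟩

variable {X K : Type*} [CommGroup X] [Finite X] [Group K] (hcard : Nat.card X = 121) (hexp : ∀ x : X, x ^ 11 = 1)
  (α : K →* MulAut X) (hα : Function.Injective α) (D : Refl K)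

/-- The fixed points of an element. -/
def fixed (k : K) : Subgroup X := (α k).toMonoidHom.eqLocus (MonoidHom.id X)

theorem mem_fixed {k : K} {x : X} : x ∈ fixed α k ↔ α k x = x := Iff.rfl

include hcard hexp hα

omit hexp in
theorem ne_top {k : K} (hk : k ≠ 1) : fixed α k ≠ ⊤ := fun h =>
  hk (hα (by rw [map_one]; exact MulEquiv.ext fun x => (h.ge (mem_top x) : x ∈ fixed α k)))

theorem card_cases (S : Subgroup X) : Nat.card S = 1 ∨ Nat.card S = 11 ∨ S = ⊤ := by
  obtain ⟨i, hi, e⟩ := (Nat.dvd_prime_pow (by norm_num : Nat.Prime 11)).1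
    (show Nat.card S ∣ 11 ^ 2 by rw [show (11 : ℕ) ^ 2 = 121 from rfl, ← hcard]; exact card_subgroup_dvd_card S)
  interval_cases i
  · exact Or.inl e
  · exact Or.inr (Or.inl (e.trans (pow_one 11)))
  · exact Or.inr (Or.inr (Subgroup.eq_top_of_card_eq S (by rw [e, hcard]; norm_num)))

omit hexp hα in
theorem inverts_of_fixed_bot {k : K} (hk : k * k = 1) (h : fixed α k = ⊥) (x : X) : α k x = x⁻¹ := by
  have h2 : α k (α k x) = x := by rw [← MulAut.mul_apply, ← map_mul, hk, map_one, MulAut.one_apply]
  have hm : x * α k x ∈ fixed α k := by rw [mem_fixed, map_mul, h2, mul_comm]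
  rw [h, mem_bot] at hm
  exact (inv_eq_of_mul_eq_one_right hm).symm

theorem sq_eq_one {x : X} (h : x * x = 1) : x = 1 := by
  have := hexp x
  rwa [show 11 = 2 * 5 + 1 from rfl, pow_succ, pow_mul, pow_two, h, one_pow, one_mul] at this

include D

theorem z0_inverts (x : X) : α D.z0 x = x⁻¹ := by
  rcases card_cases hcard hexp α hα (fixed α D.z0) with h | h | h
  · exact inverts_of_fixed_bot hcard α D.z0_sq (Subgroup.eq_bot_of_card_eq _ h) x
  swap
  · exact absurd h (ne_top hcard α hα D.z0_ne)
  exfalso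
  set L := fixed α D.z0 with hL
  set M : Subgroup X := (α D.z0).toMonoidHom.eqLocus (MulEquiv.inv X).toMonoidHom with hM
  have memM : ∀ y, y ∈ M ↔ α D.z0 y = y⁻¹ := fun y => Iff.rfl
  have hz2 : ∀ y, α D.z0 (α D.z0 y) = y := fun y => by
    rw [← MulAut.mul_apply, ← map_mul, D.z0_sq, map_one, MulAut.one_apply]
  have hinv : ∀ (k : K) (y : X), α D.z0 (α k y) = α k (α D.z0 y) := fun k y => by
    rw [← MulAut.mul_apply, ← MulAut.mul_apply, ← map_mul, ← map_mul, D.z0_central]
  have hLM : ∀ y : X, ∃ l ∈ L, ∃ m ∈ M, y = l * m := by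
    intro y
    set u := y ^ 6 with hu
    refine ⟨u * α D.z0 u, ?_, u * (α D.z0 u)⁻¹, ?_, ?_⟩
    · rw [hL, mem_fixed, map_mul, hz2, mul_comm]
    · rw [memM, map_mul, map_inv, hz2, _root_.mul_inv_rev, inv_inv]
    · rw [mul_mul_mul_comm, mul_inv_cancel, mul_one, hu, ← pow_add, show 6 + 6 = 11 + 1 from rfl, pow_succ, hexp,
        one_mul]
  have hMc : Nat.card M ≤ 11 := by
    rcases card_cases hcard hexp α hα M with h' | h' | h'
    · omega
    · omega
    · exfalso
      have hbot : L ≤ ⊥ := fun l hl => by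
        have h1 : α D.z0 l = l := hl
        have h2 : α D.z0 l = l⁻¹ := (memM l).1 (h'.ge (mem_top l))
        rw [mem_bot]
        refine sq_eq_one hcard hexp α hα ?_
        nth_rw 1 [← h1]
        rw [h2, inv_mul_cancel]
      rw [le_bot_iff.1 hbot, card_bot] at h
      norm_num at h
  have hLc : Nat.card L ≤ 11 := h.le
  have cyc : ∀ (S : Subgroup X), Nat.card S ≤ 11 → (∀ (k : K), ∀ y ∈ S, α k y ∈ S) →
      ∀ (a b : K), ∀ y ∈ S, α a (α b y) = α b (α a y) := by
    intro S hS hst a b y hy
    by_cases hy1 : y = 1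
    · simp [hy1]
    have ho : orderOf y = 11 := haveI : Fact (Nat.Prime 11) := ⟨by norm_num⟩; orderOf_eq_prime (hexp y) hy1
    have hz : zpowers y = S :=
      Subgroup.eq_of_le_of_card_ge (zpowers_le.2 hy) (by rw [Nat.card_zpowers, ho]; exact hS)
    obtain ⟨i, hi⟩ := mem_zpowers_iff.1 (hz.ge (hst a y hy))
    obtain ⟨j, hj⟩ := mem_zpowers_iff.1 (hz.ge (hst b y hy))
    rw [← hi, ← hj, map_zpow, map_zpow, ← hi, ← hj, ← _root_.zpow_mul, ← _root_.zpow_mul, mul_comm i j]
  obtain ⟨a, b, hab⟩ := D.not_comm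
  refine hab (hα (MulEquiv.ext fun y => ?_))
  obtain ⟨l, hl, m, hm, rfl⟩ := hLM y
  rw [map_mul α, map_mul α, MulAut.mul_apply, MulAut.mul_apply]
  simp only [map_mul]
  have hLst : ∀ (k : K), ∀ y ∈ L, α k y ∈ L := fun k y hy => by
    rw [hL, mem_fixed, hinv]
    exact congrArg (α k) hy
  have hMst : ∀ (k : K), ∀ y ∈ M, α k y ∈ M := fun k y hy => by
    rw [memM, hinv, (memM y).1 hy, map_inv]
  rw [cyc L hLc hLst a b l hl, cyc M hMc hMst a b m hm]

theorem card_fixed_refl (i : Fin 12) : Nat.card (fixed α (D.r i)) = 11 := by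
  rcases card_cases hcard hexp α hα (fixed α (D.r i)) with h | h | h
  · exfalso
    refine D.r_ne' i (hα (MulEquiv.ext fun x => ?_))
    rw [inverts_of_fixed_bot hcard α (D.r_sq i) (Subgroup.eq_bot_of_card_eq _ h),
      z0_inverts hcard hexp α hα D]
  · exact h
  · exact absurd h (ne_top hcard α hα (D.r_ne i))

theorem eq_of_common {i j : Fin 12} {x : X} (hx : x ≠ 1) (hi : α (D.r i) x = x) (hj : α (D.r j) x = x) :
    i = j := by
  have ho : orderOf x = 11 := haveI : Fact (Nat.Prime 11) := ⟨by norm_num⟩; orderOf_eq_prime (hexp x) hx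
  have hfix : ∀ l : Fin 12, α (D.r l) x = x → fixed α (D.r l) = zpowers x := fun l hl =>
    (Subgroup.eq_of_le_of_card_ge (zpowers_le.2 hl)
      (by rw [Nat.card_zpowers, ho, card_fixed_refl hcard hexp α hα D l])).symm
  -- both act as inversion modulo the common fixed points
  have hmod : ∀ l : Fin 12, α (D.r l) x = x → ∀ y : X, y * α (D.r l) y ∈ zpowers x := fun l hl y => by
    rw [← hfix l hl, mem_fixed, map_mul, ← MulAut.mul_apply, ← map_mul, D.r_sq, map_one, MulAut.one_apply,
      mul_comm]
  set q := D.r i * D.r j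
  have hq : ∀ y, ∃ l ∈ zpowers x, α q y = y * l := by
    intro y
    have h1 := hmod i hi (α (D.r j) y)
    have h2 := hmod j hj y
    refine ⟨(y * α (D.r j) y)⁻¹ * (α (D.r j) y * α (D.r i) (α (D.r j) y)), mul_mem (inv_mem h2) h1, ?_⟩
    rw [map_mul, MulAut.mul_apply, mul_inv, mul_assoc y⁻¹, inv_mul_cancel_left, mul_inv_cancel_left]
  have hqx : ∀ l ∈ zpowers x, α q l = l := by
    intro l hl
    obtain ⟨n, rfl⟩ := mem_zpowers_iff.1 hl
    rw [map_zpow, map_mul, MulAut.mul_apply, hj, hi]
  have hqy : q = 1 := by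
    refine hα (MulEquiv.ext fun y => ?_)
    rw [map_one, MulAut.one_apply]
    obtain ⟨l, hl, e⟩ := hq y
    have hn : ∀ n : ℕ, α (q ^ n) y = y * l ^ n := by
      intro n
      induction n with
      | zero => rw [pow_zero, map_one, MulAut.one_apply, pow_zero, mul_one]
      | succ n ih => rw [pow_succ', map_mul, MulAut.mul_apply, ih, map_mul, map_pow, hqx l hl, e, pow_succ',
          mul_assoc]
    have h48 := hn 48
    rw [D.pow_card, map_one, MulAut.one_apply, left_eq_mul] at h48
    have hl1 : l = 1 := by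
      rw [← orderOf_eq_one_iff]
      exact Nat.eq_one_of_dvd_coprimes (by norm_num : Nat.Coprime 48 11) (orderOf_dvd_of_pow_eq_one h48)
        (orderOf_dvd_of_pow_eq_one (hexp l))
    rw [e, hl1, mul_one]
  refine D.r_inj ?_
  calc D.r i = q * D.r j := by rw [mul_assoc, D.r_sq, mul_one]
    _ = D.r j := by rw [hqy, one_mul]

/-- **Every element is fixed by one of the involutions.** -/
theorem exists_fixing (x : X) : ∃ i, α (D.r i) x = x := by
  classical
  haveI := Fintype.ofFinite X
  by_contra hno
  push Not at hno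
  have hx : x ≠ 1 := fun h => hno 0 (by rw [h, map_one])
  let S : Fin 12 → Finset X := fun i => (Finset.univ.filter fun y => α (D.r i) y = y).erase 1
  have hS : ∀ i, (S i).card = 10 := by
    intro i
    rw [Finset.card_erase_of_mem (by simp)]
    have : (Finset.univ.filter fun y => α (D.r i) y = y).card = Nat.card (fixed α (D.r i)) :=
      (Nat.subtype_card _ fun y => by simp [mem_fixed]).symm
    rw [this, card_fixed_refl hcard hexp α hα D]
  have hdis : ((Finset.univ : Finset (Fin 12)) : Set (Fin 12)).PairwiseDisjoint S := by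
    intro i _ j _ hij
    refine Finset.disjoint_left.2 fun y hy hy' => hij ?_
    simp only [S, Finset.mem_erase, Finset.mem_filter, Finset.mem_univ, true_and] at hy hy'
    exact eq_of_common hcard hexp α hα D hy.1 hy.2 hy'.2
  have hc : (Finset.univ.biUnion S).card = 120 := by
    rw [Finset.card_biUnion hdis]
    simp [hS]
  have hsub : Finset.univ.biUnion S ⊆ ((Finset.univ : Finset X).erase 1).erase x := by
    intro y hy
    simp only [Finset.mem_biUnion, S, Finset.mem_erase, Finset.mem_filter, Finset.mem_univ, true_and] at hy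
    obtain ⟨i, hy1, hy2⟩ := hy
    simp only [Finset.mem_erase, Finset.mem_univ, and_true]
    exact ⟨fun e => hno i (e ▸ hy2), hy1⟩
  have := Finset.card_le_card hsub
  rw [hc, Finset.card_erase_of_mem (by simp [hx]), Finset.card_erase_of_mem (Finset.mem_univ _),
    Finset.card_univ, ← Nat.card_eq_fintype_card, hcard] at this
  omega

end CfsgLib.J4ClassEleven
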