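import Cfsg.Agent.J4ClassEleven.Local
import Cfsg.Agent.J4ClassEleven.Reflect
import Cfsg.Agent.S5563

/-!
Exactly two classes of elements of order eleven in a group of Janko-four type, from the structure of a Sylow
11-subgroup and its normaliser, the split normaliser of an elementary subgroup of order `2 ^ 11` and the
centralisers of the involutions outside the class of `z`.
-/

set_option autoImplicit false
set_option maxRecDepth 100000
set_option linter.style.haveILetI false
set_option linter.unusedSectionVars false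

namespace CfsgLib.J4ClassEleven

open Cfsg CfsgLib.J4Local CfsgLib.J4Local.M22Elem CfsgLib.J4Eleven Subgroup

variable {G : Type*} [Group G] [Finite G] [IsSimpleGroup G] {z : G} {P : Subgroup G}

/-- A section over an elementary subgroup with the labelling. -/
theorem exists_sec (hG : ¬ IsMulCommutative G) (hJ : IsOfJankoFourTypeWith z P)
    (hsplit : ∀ V : Subgroup G, Cfsg.IsElementaryAbelian 2 V → Nat.card ↥V = 2 ^ 11 →
      Subgroup.centralizer (V : Set G) ≤ V ∧ ∃ K : Subgroup G, K ≤ Subgroup.normalizer (V : Set G) ∧ K ⊓ V = ⊥ ∧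
        K ⊔ V = Subgroup.normalizer (V : Set G) ∧ Cfsg.Spor.IsoM24 ↥K) :
    Nonempty (Sec z P (vZero hJ subA)) := by
  obtain ⟨C, hloc⟩ := conf_std hJ hG
  set V := vZero hJ subA
  obtain ⟨φ, d, L⟩ := C.exists_labels
  obtain ⟨-, K, hKN, hKV, hKVs, -⟩ := hsplit V (elementary_vZero hJ hexad.first) C.card
  have hbij : Function.Bijective (φ.comp (Subgroup.inclusion hKN)) := by
    refine ⟨(injective_iff_map_eq_one _).2 fun x hx => ?_, fun g => ?_⟩
    · have hV : (x : G) ∈ V := (L.ker _).1 hx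
      exact Subtype.ext (mem_bot.1 (hKV ▸ ⟨x.2, hV⟩ : (x : G) ∈ (⊥ : Subgroup G)))
    · obtain ⟨m, rfl⟩ := L.surj g
      have hm : (m : G) ∈ K ⊔ V := hKVs.symm ▸ m.2
      rw [sup_eq_closure] at hm
      have key : ∀ y, y ∈ closure ((K : Set G) ∪ V) →
          ∃ hy : y ∈ normalizer (V : Set G), φ ⟨y, hy⟩ ∈ (φ.comp (Subgroup.inclusion hKN)).range := by
        intro y hy
        induction hy using closure_induction with
        | mem y hy =>
          rcases hy with hy | hy
          · exact ⟨hKN hy, ⟨⟨y, hy⟩, rfl⟩⟩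
          · exact ⟨le_normalizer hy, by rw [(L.ker ⟨y, le_normalizer hy⟩).2 hy]; exact one_mem _⟩
        | one => exact ⟨one_mem _, by rw [show (⟨1, one_mem _⟩ : normalizer (V : Set G)) = 1 from rfl, map_one]; exact one_mem _⟩
        | mul a b _ _ ha hb =>
          obtain ⟨ha, ha'⟩ := ha
          obtain ⟨hb, hb'⟩ := hb
          refine ⟨mul_mem ha hb, ?_⟩
          rw [show (⟨a * b, mul_mem ha hb⟩ : normalizer (V : Set G)) = ⟨a, ha⟩ * ⟨b, hb⟩ from rfl, map_mul]
          exact mul_mem ha' hb'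
        | inv a _ ha =>
          obtain ⟨ha, ha'⟩ := ha
          refine ⟨inv_mem ha, ?_⟩
          rw [show (⟨a⁻¹, inv_mem ha⟩ : normalizer (V : Set G)) = ⟨a, ha⟩⁻¹ from rfl, map_inv]
          exact inv_mem ha'
      obtain ⟨_, h⟩ := key m hm
      exact MonoidHom.mem_range.1 h
  let e := MulEquiv.ofBijective _ hbij
  exact ⟨{ φ := φ, d := d, C := C, L := L, ι := K.subtype.comp e.symm.toMonoidHom,
           hιN := fun g => hKN (e.symm g).2, hφ := fun g => e.apply_symm_apply g,
           hct := fun t ht => L.centralizer_le C hloc ht }⟩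

/-- **Two classes.** -/
theorem two_classes (hG : ¬ IsMulCommutative G) (hJ : IsOfJankoFourType G)
    (hsplit : ∀ V : Subgroup G, Cfsg.IsElementaryAbelian 2 V → Nat.card ↥V = 2 ^ 11 →
      Subgroup.centralizer (V : Set G) ≤ V ∧ ∃ K : Subgroup G, K ≤ Subgroup.normalizer (V : Set G) ∧ K ⊓ V = ⊥ ∧
        K ⊔ V = Subgroup.normalizer (V : Set G) ∧ Cfsg.Spor.IsoM24 ↥K)
    (hsecond : ∀ z : G, IsOfJankoFourTypeAt z → ∀ t : G, orderOf t = 2 → ¬ IsConj z t →
      ∃ V : Subgroup G, Cfsg.IsElementaryAbelian 2 V ∧ Nat.card ↥V = 2 ^ 11 ∧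
        centralizer ({t} : Set G) ≤ normalizer (V : Set G))
    (heleven : ∀ U : Sylow 11 G, Cfsg.IsExtraspecial 11 ↥(U : Subgroup G) ∧ Nat.card ↥(U : Subgroup G) = 11 ^ 3 ∧
      Monoid.exponent ↥(U : Subgroup G) = 11 ∧
      Nat.card ↥(normalizer ((U : Subgroup G) : Set G)) = 2 ^ 4 * 3 * 5 * 11 ^ 3 ∧
      ∃ K : Subgroup G, K ≤ normalizer ((U : Subgroup G) : Set G) ∧ Nonempty (↥K ≃* GL (Fin 2) (ZMod 3))) :
    ∃ x y : G, orderOf x = 11 ∧ orderOf y = 11 ∧ ¬ IsConj x y ∧ ∀ w : G, orderOf w = 11 → IsConj w x ∨ IsConj w y := by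
  haveI : Fact (Nat.Prime 11) := ⟨by norm_num⟩
  haveI : Fact (Nat.Prime 2) := ⟨Nat.prime_two⟩
  haveI : Fact (Nat.Prime 3) := ⟨Nat.prime_three⟩
  obtain ⟨z, P, hJ⟩ := hJ
  obtain ⟨S⟩ := exists_sec hG hJ hsplit
  obtain ⟨x, hxH, hxo, hxall⟩ := exists_rep hJ
  set b := S.ι CfsgLib.J4PGL.dbl24
  have hbo : orderOf b = 11 := CfsgLib.J4PGL.orderOf_a S.C S.L S.ι S.hιN S.hφ
  -- an element centralising an involution
  have even : ∀ w : G, orderOf w = 11 → ∀ u : G, orderOf u = 2 → u * w = w * u →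
      (IsConj w x ∨ IsConj w x⁻¹) ∨ IsConj w b := by
    intro w hw u hu huw
    by_cases hz : IsConj z u
    · left
      obtain ⟨g, hg⟩ := isConj_iff.1 hz.symm
      have hmem : g * w * g⁻¹ ∈ cH z := by
        rw [← hg]
        exact mem_centralizer_singleton_iff.2 (by rw [_root_.conj_mul, _root_.conj_mul, huw])
      have ho : orderOf (g * w * g⁻¹) = 11 := by
        rw [← hw]; exact orderOf_injective (MulAut.conj g).toMonoidHom (MulAut.conj g).injective w
      have hc : IsConj w (g * w * g⁻¹) := isConj_iff.2 ⟨g, rfl⟩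
      exact (hxall _ hmem ho).imp hc.trans hc.trans
    · right
      obtain ⟨V', hV', hc', hle⟩ := hsecond z ⟨P, hJ⟩ u hu hz
      obtain ⟨g, hg⟩ := exists_conj_std hJ hV' hc'
      have hwV : w ∈ normalizer (V' : Set G) := hle (mem_centralizer_singleton_iff.2 huw.symm)
      have hn : normalizer (vZero hJ subA : Set G) = (normalizer (V' : Set G)).map (MulAut.conj g).toMonoidHom := by
        rw [← hg, Subgroup.map_equiv_normalizer_eq]
      have hmem : g * w * g⁻¹ ∈ normalizer (vZero hJ subA : Set G) := hn ▸ ⟨w, hwV, rfl⟩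
      have ho : orderOf (g * w * g⁻¹) = 11 := by
        rw [← hw]; exact orderOf_injective (MulAut.conj g).toMonoidHom (MulAut.conj g).injective w
      exact (isConj_iff.2 ⟨g, rfl⟩ : IsConj w (g * w * g⁻¹)).trans (conj_in_normalizer hJ S hmem ho)
  obtain ⟨U⟩ := (inferInstance : Nonempty (Sylow 11 G))
  obtain ⟨⟨⟨-, -, hder⟩, hcen⟩, hU3, hexp, hN, K, hKN, ⟨eK⟩⟩ := heleven U
  obtain ⟨D⟩ := exists_refl eK
  set U0 : Subgroup G := (U : Subgroup G)
  let β : K →* MulAut U0 := (Subgroup.normalizerMonoidHom U0).comp (Subgroup.inclusion hKN)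
  have hβ : ∀ (k : K) (u : U0), ((β k u : U0) : G) = (k : G) * u * (k : G)⁻¹ := fun k u => rfl
  have hmap : ∀ k : K, (center U0).map (β k).toMonoidHom = center U0 := fun k =>
    Subgroup.characteristic_iff_map_eq.1 inferInstance (β k)
  let α : K →* MulAut (U0 ⧸ center U0) := MonoidHom.mk'
    (fun k => QuotientGroup.congr (center U0) (center U0) (β k) (hmap k)) fun k l => MulEquiv.ext fun q => by
      induction q using QuotientGroup.induction_on with
      | H u =>
        show ((β (k * l) u : U0) : U0 ⧸ center U0) = ((β k (β l u) : U0) : U0 ⧸ center U0)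
        rw [map_mul, MulAut.mul_apply]
  have hα_mk : ∀ (k : K) (u : U0), α k (u : U0 ⧸ center U0) = ((β k u : U0) : U0 ⧸ center U0) := fun k u => rfl
  have hqcard : Nat.card (U0 ⧸ center U0) = 121 := by
    have h := Subgroup.card_eq_card_quotient_mul_card_subgroup (center U0)
    rw [hU3, hcen] at h
    omega
  letI : CommGroup (U0 ⧸ center U0) :=
    { (inferInstance : Group (U0 ⧸ center U0)) with
      mul_comm := IsPGroup.commutative_of_card_eq_prime_sq (p := 11) (by rw [hqcard]; norm_num) }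
  have hu11 : ∀ u : U0, u ^ 11 = 1 := fun u => hexp ▸ Monoid.pow_exponent_eq_one u
  have hqexp : ∀ q : U0 ⧸ center U0, q ^ 11 = 1 := fun q => by
    induction q using QuotientGroup.induction_on with
    | H u => rw [← QuotientGroup.mk_pow, hu11, QuotientGroup.mk_one]
  -- nothing centralises the Sylow subgroup
  have hfix : ∀ k : K, k ≠ 1 → ∃ u : U0, β k u ≠ u := by
    intro k hk
    by_contra hall
    push Not at hall
    have hq : ∃ q : K, (orderOf q = 2 ∨ orderOf q = 3) ∧ ∀ u : U0, β q u = u := by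
      obtain ⟨p, hp, hd⟩ := Nat.exists_prime_and_dvd (n := orderOf k) (fun e => hk (orderOf_eq_one_iff.1 e))
      refine ⟨k ^ (orderOf k / p), ?_, fun u => ?_⟩
      · have ho : orderOf (k ^ (orderOf k / p)) = p := orderOf_pow_orderOf_div (orderOf_pos k).ne' hd
        rw [ho]
        have h48 : orderOf k ∣ 48 := orderOf_dvd_of_pow_eq_one (D.pow_card k)
        have hp48 : p ∣ 2 ^ 4 * 3 := hd.trans h48
        rcases hp.dvd_mul.1 hp48 with h | h
        · exact Or.inl ((Nat.prime_dvd_prime_iff_eq hp Nat.prime_two).1 (hp.dvd_of_dvd_pow h))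
        · exact Or.inr ((Nat.prime_dvd_prime_iff_eq hp Nat.prime_three).1 h)
      · induction (orderOf k / p) with
        | zero => rw [pow_zero, map_one, MulAut.one_apply]
        | succ n ih => rw [pow_succ, map_mul, MulAut.mul_apply, hall, ih]
    obtain ⟨q, hq, hqfix⟩ := hq
    have hqU : ∀ u ∈ U0, (q : G) * u = u * q := fun u hu => by
      have h := congrArg (fun y : U0 => (y : G)) (hqfix ⟨u, hu⟩)
      rw [hβ] at h
      exact mul_inv_eq_iff_eq_mul.1 h
    have hnotH : ∀ g : G, ¬ U0.map (MulAut.conj g).toMonoidHom ≤ cH z := fun g hle => by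
      have h := card_dvd_of_le hle
      rw [Subgroup.card_map_of_injective (MulAut.conj g).injective, hU3, show cH z = centralizer ({z} : Set G) from rfl,
        CfsgLib.J4Three.card_centralizer hJ] at h
      norm_num at h
    rcases hq with hq2 | hq3
    · by_cases hz : IsConj z (q : G)
      · obtain ⟨g, hg⟩ := isConj_iff.1 hz.symm
        refine hnotH g ?_
        rintro _ ⟨u, hu, rfl⟩
        rw [← hg]
        exact mem_centralizer_singleton_iff.2
          (show g * u * g⁻¹ * (g * q * g⁻¹) = g * q * g⁻¹ * (g * u * g⁻¹) by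
            rw [_root_.conj_mul, _root_.conj_mul, hqU u hu])
      · obtain ⟨V', hV', hc', hle⟩ := hsecond z ⟨P, hJ⟩ q (by rw [Subgroup.orderOf_coe, hq2]) hz
        obtain ⟨g, hg⟩ := exists_conj_std hJ hV' hc'
        have hUle : U0 ≤ normalizer (V' : Set G) := fun u hu =>
          hle (mem_centralizer_singleton_iff.2 (hqU u hu).symm)
        refine card_normalizer_not_dvd hJ S ?_
        rw [← hU3, ← hg, ← Subgroup.map_equiv_normalizer_eq,
          Subgroup.card_map_of_injective (MulAut.conj g).injective]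
        exact card_dvd_of_le hUle
    · obtain ⟨-, -, -, -, hNP⟩ := Cfsg.Agent.S5563.result hG z P hJ
      obtain ⟨p, hp⟩ := exists_prime_orderOf_dvd_card' (G := P) 3 (by rw [hJ.2.2.2.2.2.1])
      obtain ⟨g, hg⟩ := isConj_iff.1 (Cfsg.Agent.S5564.result hG ⟨z, P, hJ⟩ (q : G) p
        (by rw [Subgroup.orderOf_coe, hq3]) (by rw [Subgroup.orderOf_coe, hp]))
      refine hnotH g ?_
      rintro _ ⟨u, hu, rfl⟩
      refine hNP (centralizer_le_normalizer _ (mem_centralizer_iff.2 fun y hy => ?_))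
      have htop : zpowers p = ⊤ := Subgroup.eq_top_of_card_eq _ (by rw [Nat.card_zpowers, hp, hJ.2.2.2.2.2.1])
      obtain ⟨i, hi⟩ := mem_zpowers_iff.1 (htop.ge (mem_top (⟨y, hy⟩ : P)))
      have hi' : (p : G) ^ i = y := by simpa using congrArg Subtype.val hi
      have hcm : Commute (g * u * g⁻¹) (p : G) := by
        show g * u * g⁻¹ * p = p * (g * u * g⁻¹)
        rw [← hg, _root_.conj_mul, _root_.conj_mul, hqU u hu]
      rw [← hi']
      exact (hcm.zpow_right i).eq.symm
  -- the action on the quotient is faithful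
  have hcomm_ex : ∃ u v : U0, u * v * u⁻¹ * v⁻¹ ≠ 1 ∧ u * v * u⁻¹ * v⁻¹ ∈ center U0 := by
    by_contra hno
    push Not at hno
    have hall : ∀ u v : U0, u * v * u⁻¹ * v⁻¹ = 1 := fun u v => by
      by_contra hne
      exact hno u v hne (hder ▸ commutator_mem_commutator (mem_top u) (mem_top v))
    have : center U0 = ⊤ := (eq_top_iff' _).2 fun u => mem_center_iff.2 fun v =>
      mul_inv_eq_one.1 (by rw [mul_inv_rev, ← mul_assoc]; exact hall v u)
    rw [this, card_top, hU3] at hcen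
    norm_num at hcen
  obtain ⟨u0, v0, hζ1, hζc⟩ := hcomm_ex
  set ζ := u0 * v0 * u0⁻¹ * v0⁻¹
  have hζo : orderOf ζ = 11 := orderOf_eq_prime (hu11 ζ) hζ1
  have hζgen : zpowers ζ = center U0 :=
    Subgroup.eq_of_le_of_card_ge (zpowers_le.2 hζc) (by rw [hcen, Nat.card_zpowers, hζo])
  have hα : Function.Injective α := by
    refine (injective_iff_map_eq_one α).2 fun k hk => ?_
    by_contra hk1
    obtain ⟨u, hu⟩ := hfix k hk1
    refine hu ?_
    have hd : ∀ w : U0, ∃ c ∈ center U0, β k w = w * c := fun w => by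
      refine ⟨w⁻¹ * β k w, (QuotientGroup.eq).1 ?_, by rw [mul_inv_cancel_left]⟩
      rw [← hα_mk, hk, MulAut.one_apply]
    have hζfix : β k ζ = ζ := by
      obtain ⟨c, hc, ec⟩ := hd u0
      obtain ⟨c', hc', ec'⟩ := hd v0
      have hcc : ∀ {c : U0}, c ∈ center U0 → ∀ w, c * w = w * c := fun hc w => (mem_center_iff.1 hc w).symm
      rw [map_mul, map_mul, map_mul, map_inv, map_inv, ec, ec', mul_inv_rev, mul_inv_rev]
      calc u0 * c * (v0 * c') * (c⁻¹ * u0⁻¹) * (c'⁻¹ * v0⁻¹)
          = u0 * (c * (v0 * c') * c⁻¹) * (u0⁻¹ * c'⁻¹ * v0⁻¹) := by group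
        _ = u0 * (v0 * c') * (u0⁻¹ * c'⁻¹ * v0⁻¹) := by rw [hcc hc (v0 * c'), mul_inv_cancel_right]
        _ = u0 * v0 * (c' * u0⁻¹ * c'⁻¹) * v0⁻¹ := by group
        _ = ζ := by rw [hcc hc' u0⁻¹, mul_inv_cancel_right]
    obtain ⟨c, hc, ec⟩ := hd u
    have hcfix : β k c = c := by
      obtain ⟨i, rfl⟩ := mem_zpowers_iff.1 (hζgen.ge hc)
      rw [map_zpow, hζfix]
    have hn : ∀ n : ℕ, β (k ^ n) u = u * c ^ n := fun n => by
      induction n with
      | zero => rw [pow_zero, map_one, MulAut.one_apply, pow_zero, mul_one]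
      | succ n ih => rw [pow_succ', map_mul, MulAut.mul_apply, ih, map_mul, map_pow, hcfix, ec, pow_succ',
          mul_assoc]
    have h48 := hn 48
    rw [D.pow_card, map_one, MulAut.one_apply, left_eq_mul] at h48
    rw [ec, orderOf_eq_one_iff.1 (Nat.eq_one_of_dvd_coprimes (by norm_num : Nat.Coprime 48 11)
      (orderOf_dvd_of_pow_eq_one h48) (orderOf_dvd_of_pow_eq_one (hu11 c))), mul_one]
  have hr2 : ∀ i, orderOf (D.r i : G) = 2 := fun i => by
    rw [Subgroup.orderOf_coe]
    exact orderOf_eq_prime (by rw [pow_two]; exact D.r_sq i) (D.r_ne i)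
  have hζG : orderOf ((ζ : U0) : G) = 11 := by rw [Subgroup.orderOf_coe, hζo]
  -- the kernel of the action on the centre
  have hker8 : ∃ u : G, orderOf u = 2 ∧ u * (ζ : G) = (ζ : G) * u ∧
      8 ∣ Nat.card (centralizer ({(ζ : G)} : Set G)) := by
    set NU : Subgroup G := normalizer (U0 : Set G)
    let γ : NU →* MulAut (center U0) := MonoidHom.mk'
      (fun n => ((Subgroup.normalizerMonoidHom U0 n).subgroupMap (center U0)).trans
        (MulEquiv.subgroupCongr (Subgroup.characteristic_iff_map_eq.1 inferInstance _)))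
      fun a b => MulEquiv.ext fun c => Subtype.ext (by
        show (Subgroup.normalizerMonoidHom U0 (a * b)) (c : U0) = _
        rw [map_mul]; rfl)
    have hle : γ.ker.map NU.subtype ≤ centralizer ({(ζ : G)} : Set G) := by
      rintro _ ⟨n, hn, rfl⟩
      have h := congrArg (fun f : MulAut (center U0) => ((f ⟨ζ, hζc⟩ : center U0) : U0)) (MonoidHom.mem_ker.1 hn)
      refine mem_centralizer_singleton_iff.2 (mul_inv_eq_iff_eq_mul.1 ?_)
      exact congrArg (fun y : U0 => (y : G)) h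
    have h8 : 8 ∣ Nat.card γ.ker := by
      have h := γ.ker.card_mul_index
      rw [index_ker, hN] at h
      have hr : Nat.card γ.range ∣ 10 := by
        haveI : IsCyclic (center U0) := isCyclic_of_prime_card hcen
        refine (card_subgroup_dvd_card _).trans ?_
        rw [IsCyclic.card_mulAut, hcen, Nat.totient_prime (by norm_num)]
      have h16 : 2 ^ 4 ∣ Nat.card γ.ker * 10 :=
        ((show 2 ^ 4 ∣ 2 ^ 4 * 3 * 5 * 11 ^ 3 from ⟨3 * 5 * 11 ^ 3, by ring⟩).trans
          (h ▸ dvd_refl _)).trans (mul_dvd_mul_left _ hr)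
      rw [show Nat.card γ.ker * 10 = 2 * (Nat.card γ.ker * 5) by ring, show 2 ^ 4 = 2 * 8 from rfl,
        Nat.mul_dvd_mul_iff_left (by norm_num)] at h16
      exact (Nat.Coprime.dvd_of_dvd_mul_right (by norm_num : Nat.Coprime 8 5) h16)
    have h8C : 8 ∣ Nat.card (centralizer ({(ζ : G)} : Set G)) := by
      refine h8.trans ?_
      rw [Nat.card_congr (γ.ker.equivMapOfInjective _ NU.subtype_injective).toEquiv]
      exact card_dvd_of_le hle
    obtain ⟨u, hu⟩ := exists_prime_orderOf_dvd_card' (G := centralizer ({(ζ : G)} : Set G)) 2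
      ((by norm_num : 2 ∣ 8).trans h8C)
    exact ⟨u, by rw [Subgroup.orderOf_coe, hu], mem_centralizer_singleton_iff.1 u.2, h8C⟩
  obtain ⟨u8, hu8, hu8c, h8C⟩ := hker8
  have hζb : ¬ IsConj (ζ : G) b := fun h => by
    obtain ⟨g, hg⟩ := isConj_iff.1 h
    refine not_four hJ S ((show 4 ∣ 8 by norm_num).trans (h8C.trans ?_))
    rw [Nat.card_congr ((centralizer ({(ζ : G)} : Set G)).equivMapOfInjective (MulAut.conj g).toMonoidHom
      (MulAut.conj g).injective).toEquiv]
    refine card_dvd_of_le ?_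
    rintro _ ⟨c, hc, rfl⟩
    rw [show S.ι CfsgLib.J4PGL.dbl24 = g * ζ * g⁻¹ from hg.symm]
    exact mem_centralizer_singleton_iff.2 (by
      show g * c * g⁻¹ * (g * ζ * g⁻¹) = g * ζ * g⁻¹ * (g * c * g⁻¹)
      rw [_root_.conj_mul, _root_.conj_mul, mem_centralizer_singleton_iff.1 hc])
  -- the centre is real
  have hζinv : IsConj (ζ : G) (ζ : G)⁻¹ := by
    obtain ⟨q, hq1, hqfix⟩ : ∃ q : U0 ⧸ center U0, q ≠ 1 ∧ α (D.r 0) q = q := by
      have h := card_fixed_refl hqcard hqexp α hα D 0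
      haveI : Nontrivial (fixed α (D.r 0)) := Finite.one_lt_card_iff_nontrivial.1 (by rw [h]; norm_num)
      obtain ⟨⟨q, hq⟩, hne⟩ := exists_ne (1 : fixed α (D.r 0))
      exact ⟨q, fun e => hne (Subtype.ext e), hq⟩
    obtain ⟨q', hq'⟩ : ∃ q' : U0 ⧸ center U0, q' ∉ fixed α (D.r 0) := by
      by_contra hno
      push Not at hno
      exact ne_top hqcard α hα (D.r_ne 0) ((eq_top_iff' _).2 hno)
    obtain ⟨u, rfl⟩ := QuotientGroup.mk_surjective q
    set m := α (D.r 0) q' * q'⁻¹ with hmdef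
    have hm1 : m ≠ 1 := fun e => hq' ((mem_fixed α).2 (mul_inv_eq_one.1 e))
    have hminv : α (D.r 0) m = m⁻¹ := by
      rw [hmdef, map_mul, map_inv, ← MulAut.mul_apply, ← map_mul, D.r_sq, map_one, MulAut.one_apply, mul_inv_rev,
        inv_inv]
    have hm_not : m ∉ zpowers (u : U0 ⧸ center U0) := fun hmem => by
      obtain ⟨i, hi⟩ := mem_zpowers_iff.1 hmem
      have : α (D.r 0) m = m := by rw [← hi, map_zpow, hqfix]
      rw [hminv] at this
      exact hm1 (sq_eq_one hqcard hqexp α hα (by nth_rw 1 [← this]; exact inv_mul_cancel m))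
    obtain ⟨v, hv⟩ := QuotientGroup.mk_surjective m
    set r := D.r 0
    obtain ⟨c, hc, ec⟩ : ∃ c ∈ center U0, β r u = u * c :=
      ⟨u⁻¹ * β r u, (QuotientGroup.eq).1 (by rw [← hα_mk, hqfix]), by rw [mul_inv_cancel_left]⟩
    obtain ⟨c', hc', ec'⟩ : ∃ c' ∈ center U0, β r v = v⁻¹ * c' :=
      ⟨v * β r v, by
        have h : ((v⁻¹ : U0) : U0 ⧸ center U0) = (β r v : U0) := by rw [← hα_mk, hv, hminv, QuotientGroup.mk_inv, hv]
        simpa using (QuotientGroup.eq).1 h, by rw [inv_mul_cancel_left]⟩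
    set η := u * v * u⁻¹ * v⁻¹ with hη
    have hηc : η ∈ center U0 := hder ▸ commutator_mem_commutator (mem_top u) (mem_top v)
    have hη1 : η ≠ 1 := by
      intro e
      have huv : u * v = v * u := by
        have := congrArg (· * (v * u)) e
        simpa [hη, mul_assoc] using this
      have huc : u ∈ center U0 := by
        have hum : (u : U0 ⧸ center U0) ∈ (centralizer ({u} : Set U0)).map (QuotientGroup.mk' (center U0)) :=
          ⟨u, mem_centralizer_singleton_iff.2 rfl, rfl⟩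
        have hcc : ((centralizer ({u} : Set U0)).map (QuotientGroup.mk' (center U0))) = ⊤ := by
          rcases card_cases hqcard hqexp α hα ((centralizer ({u} : Set U0)).map (QuotientGroup.mk' (center U0)))
            with h | h | h
          · exfalso
            exact hq1 (mem_bot.1 (Subgroup.eq_bot_of_card_eq _ h ▸
              hum))
          · exfalso
            refine hm_not ?_
            rw [Subgroup.eq_of_le_of_card_ge (zpowers_le.2 hum) (by
              rw [h, Nat.card_zpowers, orderOf_eq_prime (hqexp _) hq1])]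
            exact ⟨v, mem_centralizer_singleton_iff.2 huv.symm, hv⟩
          · exact h
        refine mem_center_iff.2 fun w => ?_
        obtain ⟨w', hw', e'⟩ := mem_map.1 (hcc.ge (mem_top (w : U0 ⧸ center U0)))
        have hcd : w'⁻¹ * w ∈ center U0 := (QuotientGroup.eq).1 e'
        calc w * u = w' * (w'⁻¹ * w * u) := by group
          _ = w' * (u * (w'⁻¹ * w)) := by rw [mem_center_iff.1 hcd u]
          _ = u * w := by rw [← mul_assoc, mem_centralizer_singleton_iff.1 hw']; group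
      exact hq1 ((QuotientGroup.eq_one_iff u).2 huc)
    have hηinv : β r η = η⁻¹ := by
      have hcc : ∀ {c : U0}, c ∈ center U0 → ∀ w, c * w = w * c := fun hc w => (mem_center_iff.1 hc w).symm
      rw [hη, map_mul, map_mul, map_mul, map_inv, map_inv, ec, ec', mul_inv_rev, mul_inv_rev, inv_inv]
      calc u * c * (v⁻¹ * c') * (c⁻¹ * u⁻¹) * (c'⁻¹ * v)
          = u * (c * (v⁻¹ * c') * c⁻¹) * (u⁻¹ * c'⁻¹ * v) := by group
        _ = u * (v⁻¹ * c') * (u⁻¹ * c'⁻¹ * v) := by rw [hcc hc (v⁻¹ * c'), mul_inv_cancel_right]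
        _ = u * v⁻¹ * (c' * u⁻¹ * c'⁻¹) * v := by group
        _ = u * v⁻¹ * u⁻¹ * v := by rw [hcc hc' u⁻¹, mul_inv_cancel_right]
        _ = v⁻¹ * (η⁻¹ * v) := by rw [hη]; group
        _ = η⁻¹ := by rw [hcc (inv_mem hηc) v, inv_mul_cancel_left]
        _ = (u * v * u⁻¹ * v⁻¹)⁻¹ := by rw [hη]
    have hηgen : zpowers η = center U0 := Subgroup.eq_of_le_of_card_ge (zpowers_le.2 hηc)
      (by rw [hcen, Nat.card_zpowers, orderOf_eq_prime (hu11 η) hη1])
    obtain ⟨i, hi⟩ := mem_zpowers_iff.1 (hηgen.ge hζc)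
    have : β r ζ = ζ⁻¹ := by rw [← hi, map_zpow, hηinv, inv_zpow]
    exact isConj_iff.2 ⟨(r : G), congrArg (fun y : U0 => (y : G)) this⟩
  have hreal : IsConj x x⁻¹ := by
    rcases even _ hζG u8 hu8 hu8c with (h | h) | h
    · obtain ⟨g, hg⟩ := isConj_iff.1 h
      exact (h.symm.trans hζinv).trans (isConj_iff.2 ⟨g, by rw [← conj_inv, hg]⟩)
    · obtain ⟨g, hg⟩ := isConj_iff.1 h
      exact ((isConj_iff.2 ⟨g, by rw [← conj_inv, hg, inv_inv]⟩ : IsConj (ζ : G)⁻¹ x).symm.trans hζinv.symm).trans h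
    · exact absurd h hζb
  refine ⟨x, b, hxo, hbo, fun h => ?_, fun w hw => ?_⟩
  · obtain ⟨g, hg⟩ := isConj_iff.1 h
    refine not_comm_z hJ S (u := g * z * g⁻¹) ?_ (isConj_iff.2 ⟨g, rfl⟩)
    rw [show S.ι CfsgLib.J4PGL.dbl24 = g * x * g⁻¹ from hg.symm, _root_.conj_mul, _root_.conj_mul,
      mem_centralizer_singleton_iff.1 hxH]
  -- every element centralises an involution
  obtain ⟨u, hu, huw⟩ : ∃ u : G, orderOf u = 2 ∧ u * w = w * u := by
    obtain ⟨g, hg⟩ : ∃ g : G, g * w * g⁻¹ ∈ U0 := by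
      obtain ⟨Q, hQ⟩ := (IsPGroup.of_card (p := 11) (n := 1) (G := zpowers w)
        (by rw [Nat.card_zpowers, hw, pow_one])).exists_le_sylow
      obtain ⟨g, hg⟩ := MulAction.exists_smul_eq G Q U
      refine ⟨g, ?_⟩
      show g * w * g⁻¹ ∈ (U : Subgroup G)
      rw [← hg]
      exact ⟨w, hQ (mem_zpowers w), rfl⟩
    suffices h : ∃ u : G, orderOf u = 2 ∧ u * (g * w * g⁻¹) = g * w * g⁻¹ * u by
      obtain ⟨u, hu, huw⟩ := h
      refine ⟨g⁻¹ * u * g, ?_, ?_⟩
      · rw [← hu]
        simpa using orderOf_injective (MulAut.conj g⁻¹).toMonoidHom (MulAut.conj g⁻¹).injective u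
      · calc g⁻¹ * u * g * w = g⁻¹ * (u * (g * w * g⁻¹)) * g := by group
          _ = g⁻¹ * (g * w * g⁻¹ * u) * g := by rw [huw]
          _ = w * (g⁻¹ * u * g) := by group
    set u1 : U0 := ⟨g * w * g⁻¹, hg⟩
    show ∃ u : G, orderOf u = 2 ∧ u * (u1 : G) = (u1 : G) * u
    by_cases hc : u1 ∈ center U0
    · obtain ⟨i, hi⟩ := mem_zpowers_iff.1 (hζgen.ge hc)
      refine ⟨u8, hu8, ?_⟩
      rw [← hi, SubgroupClass.coe_zpow]
      exact ((show Commute u8 (ζ : G) from hu8c).zpow_right i).eq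
    obtain ⟨i, hi⟩ := exists_fixing hqcard hqexp α hα D (u1 : U0 ⧸ center U0)
    set r := D.r i
    have hc1 : u1⁻¹ * β r u1 ∈ center U0 := (QuotientGroup.eq).1 (by rw [← hα_mk, hi])
    -- `u1 * β r u1` is fixed
    set w1 : U0 := u1 * β r u1 with hw1
    have hrr : β r (β r u1) = u1 := by rw [← MulAut.mul_apply, ← map_mul, D.r_sq, map_one, MulAut.one_apply]
    have hw1fix : β r w1 = w1 := by
      rw [hw1, map_mul, hrr]
      calc β r u1 * u1 = u1 * ((u1⁻¹ * β r u1) * u1) := by group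
        _ = u1 * (u1 * (u1⁻¹ * β r u1)) := by rw [← mem_center_iff.1 hc1 u1]
        _ = u1 * β r u1 := by rw [mul_inv_cancel_left]
    -- its sixth power is conjugate to `u1`
    set c := (u1⁻¹ * β r u1) ^ 6 with hcdef
    have hcmem : c ∈ center U0 := pow_mem hc1 6
    have hw16 : w1 ^ 6 = u1 * c := by
      rw [hw1, show u1 * β r u1 = u1 ^ 2 * (u1⁻¹ * β r u1) by group,
        (show Commute (u1 ^ 2) (u1⁻¹ * β r u1) from mem_center_iff.1 hc1 _).mul_pow, ← pow_mul,
        show 2 * 6 = 11 + 1 from rfl, pow_succ, hu11, one_mul]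
    have hconj : ∃ y : U0, y * u1 * y⁻¹ = u1 * c := by
      obtain ⟨y, hy⟩ : ∃ y : U0, y * u1 * y⁻¹ * u1⁻¹ ≠ 1 := by
        by_contra hno
        push Not at hno
        exact hc (mem_center_iff.2 fun y => mul_inv_eq_iff_eq_mul.1 (mul_inv_eq_one.1 (hno y)))
      set η := y * u1 * y⁻¹ * u1⁻¹ with hη
      have hηc : η ∈ center U0 := hder ▸ commutator_mem_commutator (mem_top y) (mem_top u1)
      have hηgen : zpowers η = center U0 := Subgroup.eq_of_le_of_card_ge (zpowers_le.2 hηc)
        (by rw [hcen, Nat.card_zpowers, orderOf_eq_prime (hu11 η) hy])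
      obtain ⟨j, hj⟩ := (isOfFinOrder_of_finite η).mem_powers_iff_mem_zpowers.2 (hηgen.ge hcmem)
      refine ⟨y ^ j, ?_⟩
      have hstep : ∀ n : ℕ, y ^ n * u1 * (y ^ n)⁻¹ = u1 * η ^ n := fun n => by
        induction n with
        | zero => simp
        | succ n ih =>
          calc y ^ (n + 1) * u1 * (y ^ (n + 1))⁻¹ = y * (y ^ n * u1 * (y ^ n)⁻¹) * y⁻¹ := by
                rw [pow_succ']; group
            _ = y * u1 * (η ^ n * y⁻¹) := by rw [ih]; group
            _ = y * u1 * y⁻¹ * η ^ n := by rw [← mem_center_iff.1 (pow_mem hηc n) y⁻¹]; group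
            _ = η * u1 * η ^ n := by rw [hη]; group
            _ = u1 * η ^ (n + 1) := by rw [← mem_center_iff.1 hηc u1, pow_succ', mul_assoc]
      rw [hstep]
      exact congrArg (u1 * ·) hj
    obtain ⟨y, hy⟩ := hconj
    refine ⟨(y : G)⁻¹ * (r : G) * (y : G), ?_, ?_⟩
    · rw [← hr2 i]
      simpa using orderOf_injective (MulAut.conj (y : G)⁻¹).toMonoidHom (MulAut.conj (y : G)⁻¹).injective (r : G)
    · have hfx : β r (u1 * c) = u1 * c := by rw [← hw16, map_pow, hw1fix]
      have hfG : (r : G) * ((y : G) * u1 * (y : G)⁻¹) = (y : G) * u1 * (y : G)⁻¹ * r := by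
        have h := congrArg (fun t : U0 => (t : G)) hfx
        rw [hβ, show ((u1 * c : U0) : G) = (y : G) * u1 * (y : G)⁻¹ from congrArg (fun t : U0 => (t : G)) hy.symm] at h
        exact mul_inv_eq_iff_eq_mul.1 h
      calc (y : G)⁻¹ * r * y * u1 = (y : G)⁻¹ * ((r : G) * ((y : G) * u1 * (y : G)⁻¹)) * y := by group
        _ = (y : G)⁻¹ * ((y : G) * u1 * (y : G)⁻¹ * r) * y := by rw [hfG]
        _ = u1 * ((y : G)⁻¹ * r * y) := by group
  rcases even w hw u hu huw with (h | h) | h
  · exact Or.inl h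
  · exact Or.inl (h.trans hreal.symm)
  · exact Or.inr h

end CfsgLib.J4ClassEleven
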